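import Groth.Agent.ExtTorsBC.Devissage
import Groth.Agent.DRingLib.CompactObj
import Groth.Agent.S0985
import Groth.Prelude.Def_Wider

/-!
# Torsion modules as homotopy colimits of modules killed by powers of the ideal
-/

set_option autoImplicit false
set_option linter.style.haveILetI false
set_option backward.isDefEq.respectTransparency false

universe v u

open CategoryTheory CategoryTheory.Limits Pretriangulated
attribute [local instance] HasDerivedCategory.standard

noncomputable section

namespace Groth.Agent.ExtTorsBC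

theorem Bij.sigma {D : Type u} [Category.{v} D] [HasShift D ℤ] {ι : Type} (E : ι → D) [HasCoproduct E]
    {Y Y' : D} {g : Y ⟶ Y'} (h : ∀ i, Bij (E i) g) : Bij (∐ E) g := fun k => by
  let hc := isColimitOfPreserves (CategoryTheory.shiftFunctor D k) (coproductIsCoproduct E)
  constructor
  · intro a b hab
    simp only at hab
    exact hc.hom_ext fun ⟨i⟩ => (h i k).1 (by
      show (_ ≫ a) ≫ g = (_ ≫ b) ≫ g
      rw [Category.assoc, Category.assoc, hab])
  · intro y
    choose x hx using fun i => (h i k).2 ((CategoryTheory.shiftFunctor D k).map (Sigma.ι E i) ≫ y)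
    refine ⟨hc.desc (Cocone.mk Y (Discrete.natTrans fun i => x i.as)), hc.hom_ext fun ⟨i⟩ => ?_⟩
    refine (Category.assoc _ _ _).symm.trans ((congrArg (· ≫ g) (hc.fac _ _)).trans ?_)
    exact hx i

variable {A : Type u} [CommRing A] (I : Ideal A) (M : Type u) [AddCommGroup M] [Module A M]

/-- The elements killed by `I^n`. -/
def kerPow (n : ℕ) : Submodule A M where
  carrier := {x | ∀ a ∈ I ^ n, a • x = 0}
  add_mem' {x y} hx hy a ha := by rw [smul_add, hx a ha, hy a ha, add_zero]
  zero_mem' a _ := smul_zero a
  smul_mem' c x hx a ha := by rw [smul_comm, hx a ha, smul_zero]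

theorem kerPow_mono {n m : ℕ} (h : n ≤ m) : kerPow I M n ≤ kerPow I M m :=
  fun _ hx a ha => hx a (Ideal.pow_le_pow_right h ha)

/-- The system of the `kerPow`. -/
def kerSys : ℕ ⥤ ModuleCat.{u} A where
  obj n := ModuleCat.of A (kerPow I M n)
  map f := ModuleCat.ofHom (Submodule.inclusion (kerPow_mono I M (leOfHom f)))

/-- The cocone with vertex the module. -/
def kerCocone : Cocone (kerSys I M) where
  pt := ModuleCat.of A M
  ι := { app := fun n => ModuleCat.ofHom (kerPow I M n).subtype }

variable {I M} (hM : LocCoh.IsPowerTorsion I M)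

/-- A torsion module is the union of the `kerPow`. -/
def isColimitKerCocone : IsColimit (kerCocone I M) := by
  choose d hd using hM
  have key : ∀ (s : Cocone (kerSys I M)) {n m : ℕ} (h : n ≤ m) (x : M) (hx : x ∈ kerPow I M n),
      s.ι.app m ⟨x, kerPow_mono I M h hx⟩ = s.ι.app n ⟨x, hx⟩ := fun s n m h x hx =>
    ConcreteCategory.congr_hom (s.w (homOfLE h)) ⟨x, hx⟩
  have key' : ∀ (s : Cocone (kerSys I M)) (n : ℕ) (x : M) (hx : x ∈ kerPow I M n),
      s.ι.app n ⟨x, hx⟩ = s.ι.app (d x) ⟨x, hd x⟩ := fun s n x hx =>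
    (key s (le_max_left n (d x)) x hx).symm.trans (key s (le_max_right n (d x)) x (hd x))
  exact
    { desc := fun s => ModuleCat.ofHom
        { toFun := fun x => s.ι.app (d x) ⟨x, hd x⟩
          map_add' := fun x y => by
            have hx := kerPow_mono I M (le_max_left (d x) (d y)) (hd x)
            have hy := kerPow_mono I M (le_max_right (d x) (d y)) (hd y)
            rw [← key' s (max (d x) (d y)) x hx, ← key' s (max (d x) (d y)) y hy,
              ← key' s (max (d x) (d y)) (x + y) (add_mem hx hy)]
            exact (s.ι.app (max (d x) (d y))).hom.map_add ⟨x, hx⟩ ⟨y, hy⟩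
          map_smul' := fun c x => by
            rw [← key' s (d x) (c • x) (Submodule.smul_mem _ c (hd x)), RingHom.id_apply]
            exact (s.ι.app (d x)).hom.map_smul c ⟨x, hd x⟩ }
      fac := fun s n => ModuleCat.hom_ext (LinearMap.ext fun x => (key' s n x.1 x.2).symm)
      uniq := fun s f hf => ModuleCat.hom_ext (LinearMap.ext fun x =>
        ConcreteCategory.congr_hom (hf (d x)) ⟨x, hd x⟩) }

include hM in
/-- A morphism bijective on maps out of killed objects is bijective on maps out of torsion modules. -/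
theorem bij_single {Y Y' : DerivedCategory (ModuleCat.{u} A)} (g : Y ⟶ Y')
    (h : ∀ (n : ℕ) (X : DerivedCategory (ModuleCat.{u} A)), (∀ c ∈ I ^ n, c • 𝟙 X = 0) →
      Function.Bijective fun φ : X ⟶ Y => φ ≫ g) :
    Bij ((DerivedCategory.singleFunctor (ModuleCat.{u} A) 0).obj (ModuleCat.of A M)) g := by
  let s := HomologicalComplex.single (ModuleCat.{u} A) (ComplexShape.up ℤ) 0
  let L := kerSys I M ⋙ s
  let E : ℕ → DerivedCategory (ModuleCat.{u} A) := fun n => DerivedCategory.Q.obj (L.obj n)
  obtain ⟨hQ⟩ := DRingLib.nonempty_isColimit_Q_cofan (coproductIsCoproduct L.obj)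
  haveI hE : HasCoproduct fun n => DerivedCategory.Q.obj (L.obj n) := ⟨⟨⟨_, hQ⟩⟩⟩
  haveI : PreservesColimit (Discrete.functor L.obj) (DerivedCategory.Q (C := ModuleCat.{u} A)) :=
    preservesColimit_of_preserves_colimit_cocone (coproductIsCoproduct L.obj)
      ((isColimitMapCoconeCofanMkEquiv DerivedCategory.Q L.obj (Sigma.ι L.obj)).symm hQ)
  obtain ⟨δ, hT⟩ := Groth.Agent.S0985.result L
  have hE' : ∀ n, Bij (E n) g := fun n k => by
    refine h n _ fun c hc => killed_shift ?_ k
    have h0 : c • 𝟙 ((kerSys I M).obj n) = 0 := ModuleCat.hom_ext (LinearMap.ext fun x => Subtype.ext (x.2 c hc))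
    show c • 𝟙 ((DerivedCategory.singleFunctor (ModuleCat.{u} A) 0).obj ((kerSys I M).obj n)) = 0
    rw [← CategoryTheory.Functor.map_id, ← CategoryTheory.Functor.map_smul, h0, Functor.map_zero]
  have hS := Bij.sigma E hE'
  have hC : Bij (DerivedCategory.Q.obj (colimit L)) g := fun k =>
    bijective_obj₃ (Triangle.shift_distinguished _ hT k) (hS.shift k) (hS.shift k)
  let hc : IsColimit (s.mapCocone (kerCocone I M)) := HomologicalComplex.isColimitOfEval _ _ fun i => by
    by_cases hi : i = 0
    · subst hi
      exact (IsColimit.equivOfNatIsoOfIso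
        (Functor.isoWhiskerLeft (kerSys I M) (NatIso.ofComponents (fun N => (HomologicalComplex.singleObjXSelf (ComplexShape.up ℤ) 0 N).symm)
          (fun f => by simp [s, HomologicalComplex.single_map_f_self]) : 𝟭 _ ≅ s ⋙ HomologicalComplex.eval _ _ 0) : _)
        (kerCocone I M) ((HomologicalComplex.eval (ModuleCat.{u} A) (ComplexShape.up ℤ) 0).mapCocone (s.mapCocone (kerCocone I M))) (Cocone.ext (HomologicalComplex.singleObjXSelf (ComplexShape.up ℤ) 0 (ModuleCat.of A M)).symm
          fun n => by simp [s, HomologicalComplex.single_map_f_self, kerCocone])) (isColimitKerCocone hM)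
    · exact evaluationJointlyZero i hi
  exact fun k => bijective_of_iso
    ((CategoryTheory.shiftFunctor _ k).mapIso (DerivedCategory.Q.mapIso ((colimit.isColimit L).coconePointUniqueUpToIso hc))) (hC k)
where
  evaluationJointlyZero (i : ℤ) (hi : i ≠ 0) :
      IsColimit ((HomologicalComplex.eval (ModuleCat.{u} A) (ComplexShape.up ℤ) i).mapCocone
        ((HomologicalComplex.single (ModuleCat.{u} A) (ComplexShape.up ℤ) 0).mapCocone (kerCocone I M))) :=
    { desc := fun _ => 0
      fac := fun c n => (HomologicalComplex.isZero_single_obj_X (ComplexShape.up ℤ) 0 _ i hi).eq_of_src _ _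
      uniq := fun c f _ => (HomologicalComplex.isZero_single_obj_X (ComplexShape.up ℤ) 0 _ i hi).eq_of_src _ _ }

end Groth.Agent.ExtTorsBC
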