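import Mathlib.CategoryTheory.Triangulated.Pretriangulated
import Mathlib.CategoryTheory.Shift.ShiftSequence
import Mathlib.CategoryTheory.Linear.Basic

/-!
# Classes of objects seeing a morphism as an isomorphism
-/

set_option autoImplicit false
set_option linter.style.haveILetI false
set_option backward.isDefEq.respectTransparency false

universe v u

open CategoryTheory CategoryTheory.Limits Pretriangulated

namespace Groth.Agent.ExtTorsBC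

variable {D : Type u} [Category.{v} D] [Preadditive D] [HasZeroObject D] [HasShift D ℤ]
  [∀ n : ℤ, (shiftFunctor D n).Additive] [Pretriangulated D]

/-- All shifts of `X` see `g` as an isomorphism. -/
def Bij (X : D) {Y Y' : D} (g : Y ⟶ Y') : Prop :=
  ∀ k : ℤ, Function.Bijective fun φ : X⟦k⟧ ⟶ Y => φ ≫ g

omit [Preadditive D] [HasZeroObject D] [HasShift D ℤ] [∀ n : ℤ, (shiftFunctor D n).Additive] [Pretriangulated D] in
theorem bijective_of_iso {X X' : D} (e : X ≅ X') {Y Y' : D} {g : Y ⟶ Y'}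
    (h : Function.Bijective fun φ : X ⟶ Y => φ ≫ g) : Function.Bijective fun φ : X' ⟶ Y => φ ≫ g :=
  ⟨fun a b hab => (cancel_epi e.hom).1 (h.1 (by simpa using congrArg (e.hom ≫ ·) hab)),
    fun c => by
      obtain ⟨a, ha⟩ := h.2 (e.hom ≫ c)
      exact ⟨e.inv ≫ a, by simp [show a ≫ g = e.hom ≫ c from ha]⟩⟩

omit [Preadditive D] [HasZeroObject D] [∀ n : ℤ, (shiftFunctor D n).Additive] [Pretriangulated D] in
theorem Bij.shift {X Y Y' : D} {g : Y ⟶ Y'} (h : Bij X g) (m : ℤ) : Bij (X⟦m⟧) g := fun k =>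
  bijective_of_iso ((shiftFunctorAdd' D m k (m + k) rfl).app X) (h (m + k))

omit [Preadditive D] [HasZeroObject D] [∀ n : ℤ, (shiftFunctor D n).Additive] [Pretriangulated D] in
theorem Bij.zero {X Y Y' : D} {g : Y ⟶ Y'} (h : Bij X g) : Function.Bijective fun φ : X ⟶ Y => φ ≫ g :=
  bijective_of_iso ((shiftFunctorZero D ℤ).app X) (h 0)

/-- Two out of three: the third vertex. -/
theorem bijective_obj₃ {T : Triangle D} (hT : T ∈ distTriang D) {Y Y' : D} {g : Y ⟶ Y'}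
    (h₁ : Bij T.obj₁ g) (h₂ : Bij T.obj₂ g) : Function.Bijective fun φ : T.obj₃ ⟶ Y => φ ≫ g := by
  have inj₂ := h₂.zero
  have bij₁' := h₁ 1
  have hT' := rot_of_distTriang T hT
  constructor
  · intro a b hab
    simp only at hab
    rw [← sub_eq_zero]
    set φ := a - b with hφd
    have hφ : φ ≫ g = 0 := by rw [hφd, Preadditive.sub_comp, hab, sub_self]
    obtain ⟨ψ, hψ⟩ : ∃ ψ : T.obj₁⟦(1 : ℤ)⟧ ⟶ Y, φ = T.mor₃ ≫ ψ := Triangle.yoneda_exact₃ T hT φ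
      (inj₂.1 (show (T.mor₂ ≫ φ) ≫ g = 0 ≫ g by rw [Category.assoc, hφ, comp_zero, zero_comp]))
    obtain ⟨z, hz⟩ : ∃ z : T.obj₂⟦(1 : ℤ)⟧ ⟶ Y', ψ ≫ g = (-T.mor₁⟦(1 : ℤ)⟧') ≫ z :=
      Triangle.yoneda_exact₃ T.rotate hT' (ψ ≫ g) (by
        show T.mor₃ ≫ ψ ≫ g = 0
        rw [← Category.assoc, ← hψ, hφ])
    obtain ⟨z', rfl⟩ := (h₂ 1).2 z
    have e : ψ = (-T.mor₁⟦(1 : ℤ)⟧') ≫ z' := bij₁'.1 (by
      show ψ ≫ g = ((-T.mor₁⟦(1 : ℤ)⟧') ≫ z') ≫ g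
      rw [Category.assoc]; exact hz)
    rw [hψ, e, Preadditive.neg_comp, Preadditive.comp_neg, ← Category.assoc]
    rw [comp_distTriang_mor_zero₃₁ T hT, zero_comp, neg_zero]
  · intro y
    obtain ⟨x, hx⟩ := inj₂.2 (T.mor₂ ≫ y)
    have hx' : x ≫ g = T.mor₂ ≫ y := hx
    obtain ⟨x₀, hx₀⟩ : ∃ x₀ : T.obj₃ ⟶ Y, x = T.mor₂ ≫ x₀ := Triangle.yoneda_exact₂ T hT x
      (h₁.zero.1 (show (T.mor₁ ≫ x) ≫ g = 0 ≫ g by
        rw [Category.assoc, hx', ← Category.assoc, comp_distTriang_mor_zero₁₂ T hT, zero_comp, zero_comp]))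
    obtain ⟨z, hz⟩ : ∃ z : T.obj₁⟦(1 : ℤ)⟧ ⟶ Y', y - x₀ ≫ g = T.mor₃ ≫ z :=
      Triangle.yoneda_exact₃ T hT (y - x₀ ≫ g) (by
        rw [Preadditive.comp_sub, ← hx', hx₀, Category.assoc, sub_self])
    obtain ⟨z', rfl⟩ := bij₁'.2 z
    exact ⟨x₀ + T.mor₃ ≫ z', by
      simp only [Preadditive.add_comp, Category.assoc]
      rw [← hz]; abel⟩

/-- One step of the devissage: `K` sees `η` as an isomorphism on objects killed by `f` if its cone does. -/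
theorem bijective_of_cone {T T' : Triangle D} (hT : T ∈ distTriang D) (hT' : T' ∈ distTriang D) (τ : T ⟶ T')
    (P : D → Prop) (hP : ∀ X, P X → ∀ k : ℤ, P (X⟦k⟧)) (hf : ∀ X, P X → ∀ φ : X ⟶ T.obj₁, φ ≫ T.mor₁ = 0)
    (hf' : ∀ X, P X → ∀ φ : X ⟶ T'.obj₁, φ ≫ T'.mor₁ = 0) (e : T.obj₂ ≅ T.obj₁) (e' : T'.obj₂ ≅ T'.obj₁)
    (he : τ.hom₂ ≫ e'.hom = e.hom ≫ τ.hom₁)
    (h₃ : ∀ X, P X → Function.Bijective fun φ : X ⟶ T.obj₃ => φ ≫ τ.hom₃) {X : D} (hX : P X) :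
    Function.Bijective fun φ : X ⟶ T.obj₁ => φ ≫ τ.hom₁ := by
  have hinj : ∀ W, P W → ∀ φ : W ⟶ T.obj₂, φ ≫ τ.hom₂ = 0 → φ = 0 := fun W hW φ hφ => by
    have h0 : φ ≫ T.mor₂ = 0 := (h₃ W hW).1 (by
      show (φ ≫ T.mor₂) ≫ τ.hom₃ = 0 ≫ τ.hom₃
      rw [Category.assoc, τ.comm₂, ← Category.assoc, hφ, zero_comp, zero_comp])
    obtain ⟨ψ, hψ⟩ : ∃ ψ : W ⟶ T.obj₁, φ = ψ ≫ T.mor₁ := Triangle.coyoneda_exact₂ T hT φ h0
    rw [hψ, hf W hW]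
  have hinj₁ : ∀ W, P W → ∀ φ : W ⟶ T.obj₁, φ ≫ τ.hom₁ = 0 → φ = 0 := fun W hW φ hφ =>
    (cancel_mono e.inv).1 ((hinj W hW (φ ≫ e.inv) (by
      rw [← cancel_mono e'.hom, Category.assoc, Category.assoc, he, e.inv_hom_id_assoc, hφ, zero_comp])).trans
        zero_comp.symm)
  refine ⟨fun a b hab => sub_eq_zero.1 (hinj₁ X hX _ ?_), fun y₁ => ?_⟩
  · simp only at hab
    rw [Preadditive.sub_comp, hab, sub_self]
  let y := y₁ ≫ e'.inv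
  obtain ⟨x', hx'⟩ := (h₃ X hX).2 (y ≫ T'.mor₂)
  have hx : x' ≫ τ.hom₃ = y ≫ T'.mor₂ := hx'
  have h0 : x' ≫ T.mor₃ = 0 := by
    let ψ := x' ≫ T.mor₃
    have hψ : ψ ≫ τ.hom₁⟦(1 : ℤ)⟧' = 0 := by
      show (x' ≫ T.mor₃) ≫ τ.hom₁⟦(1 : ℤ)⟧' = 0
      rw [Category.assoc, τ.comm₃, ← Category.assoc, hx, Category.assoc, comp_distTriang_mor_zero₂₃ T' hT', comp_zero]
    let c := shiftFunctorCompIsoId D (1 : ℤ) (-1) (by omega)
    have := hinj₁ _ (hP X hX (-1)) (ψ⟦(-1 : ℤ)⟧' ≫ c.hom.app T.obj₁) (by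
      rw [Category.assoc, show c.hom.app T.obj₁ ≫ τ.hom₁ = (shiftFunctor D (-1 : ℤ)).map (τ.hom₁⟦(1 : ℤ)⟧') ≫ c.hom.app _ from
        (c.hom.naturality τ.hom₁).symm, ← Category.assoc, ← Functor.map_comp, hψ, Functor.map_zero, zero_comp])
    have h2 : ψ⟦(-1 : ℤ)⟧' = 0 := (cancel_mono (c.hom.app T.obj₁)).1 (this.trans zero_comp.symm)
    exact (shiftFunctor D (-1 : ℤ)).map_injective (h2.trans ((shiftFunctor D (-1 : ℤ)).map_zero _ _).symm)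
  obtain ⟨x, rfl⟩ := Triangle.coyoneda_exact₃ T hT x' h0
  obtain ⟨z, hz⟩ : ∃ z : X ⟶ T'.obj₁, y - x ≫ τ.hom₂ = z ≫ T'.mor₁ :=
    Triangle.coyoneda_exact₂ T' hT' (y - x ≫ τ.hom₂) (by
      rw [Preadditive.sub_comp, ← hx, Category.assoc, Category.assoc, τ.comm₂, sub_self])
  refine ⟨x ≫ e.hom, ?_⟩
  show (x ≫ e.hom) ≫ τ.hom₁ = y₁
  rw [Category.assoc, ← he, ← Category.assoc, ← (sub_eq_zero.1 (hz.trans (hf' X hX z))), Category.assoc, Iso.inv_hom_id, Category.comp_id]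

end Groth.Agent.ExtTorsBC
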