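import Groth.Agent.ExtTorsBC.Killed
import Groth.Agent.ExtTorsBC.Formal
import Mathlib.Algebra.Homology.DerivedCategory.HomologySequence
import Mathlib.Algebra.Homology.DerivedCategory.Linear
import Mathlib.Algebra.Homology.ShortComplex.Linear
import Mathlib.RingTheory.Regular.RegularSequence

/-!
# Objects killed by a power of the ideal do not see the base change
-/

set_option autoImplicit false
set_option linter.style.haveILetI false
set_option backward.isDefEq.respectTransparency false

universe u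

open CategoryTheory CategoryTheory.Limits Pretriangulated CochainComplex
attribute [local instance] HasDerivedCategory.standard

noncomputable section

namespace Groth.Agent.ExtTorsBC

variable {A B : Type u} [CommRing A] [CommRing B] [Algebra A B]

/-- The derived category of modules. -/
abbrev DM (A : Type u) [CommRing A] := DerivedCategory (ModuleCat.{u} A)

/-- Complexes of modules. -/
abbrev CM (A : Type u) [CommRing A] := CochainComplex (ModuleCat.{u} A) ℤ

/-- The unit on complexes. -/
abbrev ηCx (K : CM A) : K ⟶ ((GF A B).mapHomologicalComplex (ComplexShape.up ℤ)).obj K :=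
  (NatTrans.mapHomologicalComplex (η A B) (ComplexShape.up ℤ)).app K

theorem GF_map_smul {M N : ModuleCat.{u} A} (a : A) (g : M ⟶ N) :
    (GF A B).map (a • g) = a • (GF A B).map g := by
  refine ModuleCat.hom_ext (LinearMap.ext fun x => ?_)
  induction x using TensorProduct.induction_on with
  | zero => exact (map_zero _).trans (map_zero _).symm
  | tmul b m =>
    show b ⊗ₜ[A] (a • g m) = a • (b ⊗ₜ[A] g m)
    exact TensorProduct.tmul_smul a b (g m)
  | add x y hx hy => exact (map_add _ x y).trans ((congrArg₂ (· + ·) hx hy).trans (map_add _ x y).symm)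

variable (B) in
/-- The triangle of multiplication by `a`, and its image by base change. -/
theorem smul_mapCx (K : CM A) (a : A) :
    ((GF A B).mapHomologicalComplex (ComplexShape.up ℤ)).map (a • 𝟙 K) =
      a • 𝟙 (((GF A B).mapHomologicalComplex (ComplexShape.up ℤ)).obj K) := by
  ext n : 1
  show (GF A B).map (a • 𝟙 (K.X n)) = a • 𝟙 ((GF A B).obj (K.X n))
  rw [GF_map_smul, CategoryTheory.Functor.map_id]

theorem ηCx_cone {K L : CM A} (φ : K ⟶ L) :
    ηCx (B := B) (mappingCone φ) ≫ (mappingCone.mapHomologicalComplexIso φ (GF A B)).hom =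
      mappingCone.map φ (((GF A B).mapHomologicalComplex (ComplexShape.up ℤ)).map φ) (ηCx K) (ηCx L)
        ((NatTrans.mapHomologicalComplex (η A B) (ComplexShape.up ℤ)).naturality φ) := by
  ext n : 1
  simp only [HomologicalComplex.comp_f, NatTrans.mapHomologicalComplex_app_f, mappingCone.mapHomologicalComplexIso,
    HomologicalComplex.Hom.isoOfComponents_hom_f, mappingCone.mapHomologicalComplexXIso_eq φ (GF A B) n (n + 1) rfl,
    mappingCone.mapHomologicalComplexXIso'_hom]
  simp only [mappingCone.ext_from_iff _ (n + 1) n rfl, mappingCone.map, Preadditive.comp_add,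
    mappingCone.inl_v_desc_f, mappingCone.inr_f_desc_f]
  constructor
  · erw [← reassoc_of% ((η A B).naturality ((mappingCone.inl φ).v (n + 1) n (by omega)))]
    simp [← Functor.map_comp_assoc, ← Functor.map_comp]
  · erw [← reassoc_of% ((η A B).naturality ((mappingCone.inr φ).f n))]
    simp [← Functor.map_comp_assoc, ← Functor.map_comp]

theorem homologyMap_smul'' {K L : CM A} (r : A) (φ : K ⟶ L) (i : ℤ) :
    HomologicalComplex.homologyMap (r • φ) i = r • HomologicalComplex.homologyMap φ i := by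
  let S := HomologicalComplex.shortComplexFunctor (ModuleCat.{u} A) (ComplexShape.up ℤ) i
  show ShortComplex.homologyMap (S.map (r • φ)) = r • ShortComplex.homologyMap (S.map φ)
  rw [show S.map (r • φ) = r • S.map φ from ShortComplex.hom_ext _ _ rfl rfl rfl]
  exact ShortComplex.homologyMap_smul _ _

theorem killed_shift {X : DM A} {a : A} (h : a • 𝟙 X = 0) (k : ℤ) : a • 𝟙 (X⟦k⟧) = 0 := by
  rw [← CategoryTheory.Functor.map_id (CategoryTheory.shiftFunctor (DM A) k) X, ← CategoryTheory.Functor.map_smul, h, Functor.map_zero]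

theorem comp_Q_smul {X : DM A} {K : CM A} {a : A} (h : a • 𝟙 X = 0) (φ : X ⟶ DerivedCategory.Q.obj K) :
    φ ≫ DerivedCategory.Q.map (a • 𝟙 K) = 0 := by
  rw [CategoryTheory.Functor.map_smul, CategoryTheory.Functor.map_id, Linear.comp_smul, Category.comp_id,
    ← Category.id_comp φ, ← Linear.smul_comp, h, zero_comp]

/-- The cohomology of the cone of multiplication by `a` is killed by powers of `a` and of what kills that of `K`. -/
theorem homology_cone_killed (K : CM A) (a : A) (J : Ideal A) (i : ℤ) (m : ℕ)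
    (hi : ∀ c ∈ J ^ m, ∀ t : K.homology i, c • t = 0) (hi' : ∀ c ∈ J ^ m, ∀ t : K.homology (i + 1), c • t = 0) :
    ∃ n : ℕ, ∀ c ∈ (J ⊔ Ideal.span {a}) ^ n, ∀ t : (mappingCone (a • 𝟙 K)).homology i, c • t = 0 := by
  let T : Triangle (DM A) := DerivedCategory.Q.mapTriangle.obj (mappingCone.triangle (a • 𝟙 K))
  have hT : T ∈ distTriang (DM A) :=
    (DerivedCategory.mem_distTriang_iff _).2 ⟨K, K, a • 𝟙 K, ⟨Iso.refl _⟩⟩
  let H := DerivedCategory.homologyFunctor (ModuleCat.{u} A) i
  let e := (DerivedCategory.homologyFunctorFactors (ModuleCat.{u} A) i).app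
  let e' := (DerivedCategory.homologyFunctorFactors (ModuleCat.{u} A) (i + 1)).app
  have hex₃ := (ShortComplex.moduleCat_exact_iff _).1
    (DerivedCategory.HomologySequence.exact₃ T hT i (i + 1) rfl)
  have hex₁ := (ShortComplex.moduleCat_exact_iff _).1
    (DerivedCategory.HomologySequence.exact₁ T hT i (i + 1) rfl)
  have hmul : ∀ (j : ℤ) (y : (DerivedCategory.homologyFunctor (ModuleCat.{u} A) j).obj T.obj₁),
      (DerivedCategory.homologyFunctor (ModuleCat.{u} A) j).map T.mor₁ y = a • y := fun j y => by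
    let ej := (DerivedCategory.homologyFunctorFactors (ModuleCat.{u} A) j)
    refine (ej.app K).toLinearEquiv.injective ?_
    refine (ConcreteCategory.congr_hom (ej.hom.naturality (a • 𝟙 K)) y).trans ?_
    show (HomologicalComplex.homologyMap (a • 𝟙 K) j) ((ej.app K).hom y) = _
    rw [homologyMap_smul'', HomologicalComplex.homologyMap_id]
    exact ((ej.app K).hom.hom.map_smul a y).symm
  have main : ∀ c : A, ((c = a) ∨ c ∈ J ^ m) → ∀ t : (DerivedCategory.homologyFunctor (ModuleCat.{u} A) i).obj T.obj₃,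
      ∀ d : A, ((d = a ∧ c = a) ∨ d ∈ J ^ m) → (d * c) • t = 0 := fun c hc t d hd => by
    let δ := DerivedCategory.HomologySequence.δ T i (i + 1) rfl
    have h0 : c • δ t = 0 := by
      rcases hc with rfl | hc
      · rw [← hmul (i + 1)]
        exact ConcreteCategory.congr_hom (DerivedCategory.HomologySequence.δ_comp T hT i (i + 1) rfl) t
      · refine (e' K).toLinearEquiv.injective ?_
        rw [map_smul, map_zero]
        exact hi' c hc _
    obtain ⟨y, hy⟩ := hex₃ (c • t) ((δ.hom.map_smul c t).trans h0)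
    rw [mul_smul, ← hy, ← map_smul]
    rcases hd with ⟨rfl, -⟩ | hd
    · rw [← hmul i]
      exact ConcreteCategory.congr_hom ((DerivedCategory.homologyFunctor (ModuleCat.{u} A) i).map_comp T.mor₁ T.mor₂ |>.symm.trans
        ((congrArg _ (comp_distTriang_mor_zero₁₂ T hT)).trans (Functor.map_zero _ _ _))) y
    · have : d • y = 0 := (e K).toLinearEquiv.injective (by rw [map_smul, map_zero]; exact hi d hd _)
      rw [this, map_zero]
  refine ⟨(m + m) + 2, fun c hc t => ?_⟩
  have hc' := (Ideal.sup_pow_add_le_pow_sup_pow (n := m + m) (m := 2)) hc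
  let t' := (e (mappingCone (a • 𝟙 K))).inv t
  refine (e (mappingCone (a • 𝟙 K))).symm.toLinearEquiv.injective ?_
  rw [map_smul, map_zero]
  show c • t' = 0
  obtain ⟨p, hp, q, hq, rfl⟩ := Submodule.mem_sup.1 hc'
  rw [pow_add] at hp
  rw [Ideal.span_singleton_pow, Ideal.mem_span_singleton] at hq
  obtain ⟨r, rfl⟩ := hq
  rw [add_smul, mul_comm (a ^ 2), mul_smul, pow_two, main a (Or.inl rfl) t' a (Or.inl ⟨rfl, rfl⟩), smul_zero, add_zero]
  refine Submodule.mul_induction_on hp (fun x hx y hy => main y (Or.inr hy) t' x (Or.inr hx)) (fun x y hx hy => ?_)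
  rw [add_smul, hx, hy, add_zero]

variable (I : Ideal A)
  (hs : Function.Surjective ((Ideal.Quotient.mk (I.map (algebraMap A B))).comp (algebraMap A B)))
  (hk : RingHom.ker ((Ideal.Quotient.mk (I.map (algebraMap A B))).comp (algebraMap A B)) = I)
  [Module.Flat A B]

  (hI : I.FG)

include hs hk hI

/-- The devissage along generators of the ideal. -/
theorem bij_ηCx : ∀ (l : List A), (∀ f ∈ l, f ∈ I) → ∀ (J : Ideal A), I ≤ (J ⊔ Ideal.ofList l).radical →
    ∀ K : CM A, (∀ i, ∃ m : ℕ, ∀ c ∈ J ^ m, ∀ t : K.homology i, c • t = 0) →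
    ∀ (n : ℕ) (X : DM A), (∀ c ∈ I ^ n, c • 𝟙 X = 0) →
      Function.Bijective fun φ : X ⟶ DerivedCategory.Q.obj K => φ ≫ DerivedCategory.Q.map (ηCx (B := B) K)
  | [], _, J, hJ, K, hK, n, X, _ => by
    haveI : QuasiIso (ηCx (B := B) K) := quasiIso_η I hs hk K fun i => by
      obtain ⟨m, hm⟩ := hK i
      obtain ⟨k, hk'⟩ := Ideal.exists_pow_le_of_le_radical_of_fg (I := I) (J := J)
        (hJ.trans (by rw [Ideal.ofList_nil, sup_bot_eq])) hI
      exact ⟨k * m, fun c hc => hm c (Ideal.pow_right_mono hk' m (by rwa [← pow_mul]))⟩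
    exact ⟨fun _ _ h => (cancel_mono _).1 h,
      fun y => ⟨y ≫ inv (DerivedCategory.Q.map (ηCx (B := B) K)), by simp⟩⟩
  | f :: l, hl, J, hJ, K, hK, n, X, hX => by
    let a := f ^ n
    let G := (GF A B).mapHomologicalComplex (ComplexShape.up ℤ)
    let τ₀ := mappingCone.triangleMap (a • 𝟙 K) (G.map (a • 𝟙 K)) (ηCx (B := B) K) (ηCx (B := B) K)
      ((NatTrans.mapHomologicalComplex (η A B) (ComplexShape.up ℤ)).naturality (a • 𝟙 K))
    let τ := DerivedCategory.Q.mapTriangle.map τ₀
    have hτ : ∀ X : DM A, (∀ c ∈ I ^ n, c • 𝟙 X = 0) →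
        Function.Bijective fun φ : X ⟶ DerivedCategory.Q.obj (mappingCone (a • 𝟙 K)) =>
          φ ≫ DerivedCategory.Q.map (ηCx (B := B) (mappingCone (a • 𝟙 K))) := fun X hX => by
      refine bij_ηCx l (fun g hg => hl g (List.mem_cons_of_mem f hg)) (J ⊔ Ideal.span {a}) ?_ _ (fun i => ?_) n X hX
      · refine hJ.trans (Ideal.radical_le_radical_iff.2 (sup_le (le_sup_left.trans (le_sup_left.trans Ideal.le_radical)) ?_))
        rw [Ideal.ofList_cons]
        refine sup_le ((Ideal.span_singleton_le_iff_mem _).2 ⟨n, Ideal.mem_sup_left (Ideal.mem_sup_right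
          (Ideal.mem_span_singleton_self a))⟩) (le_sup_right.trans Ideal.le_radical)
      · obtain ⟨m₁, h₁⟩ := hK i
        obtain ⟨m₂, h₂⟩ := hK (i + 1)
        exact homology_cone_killed K a J i (max m₁ m₂)
          (fun c hc => h₁ c (Ideal.pow_le_pow_right (le_max_left _ _) hc))
          (fun c hc => h₂ c (Ideal.pow_le_pow_right (le_max_right _ _) hc))
    have ha : ∀ Y : DM A, (∀ c ∈ I ^ n, c • 𝟙 Y = 0) → a • 𝟙 Y = 0 := fun Y hY =>
      hY a (Ideal.pow_mem_pow (hl f List.mem_cons_self) n)
    refine bijective_of_cone ((DerivedCategory.mem_distTriang_iff _).2 ⟨K, K, a • 𝟙 K, ⟨Iso.refl _⟩⟩)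
      ((DerivedCategory.mem_distTriang_iff _).2 ⟨_, _, G.map (a • 𝟙 K), ⟨Iso.refl _⟩⟩) τ
      (fun Y => ∀ c ∈ I ^ n, c • 𝟙 Y = 0) (fun Y hY k c hc => killed_shift (hY c hc) k)
      (fun Y hY φ => comp_Q_smul (ha Y hY) φ)
      (fun Y hY φ => by
        show φ ≫ DerivedCategory.Q.map (G.map (a • 𝟙 K)) = 0
        rw [smul_mapCx]
        exact comp_Q_smul (ha Y hY) φ)
      (Iso.refl _) (Iso.refl _) ((Category.comp_id _).trans (Category.id_comp _).symm) (fun Y hY => ?_) hX
    show Function.Bijective fun φ : Y ⟶ DerivedCategory.Q.obj (mappingCone (a • 𝟙 K)) =>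
      φ ≫ DerivedCategory.Q.map τ₀.hom₃
    rw [show τ₀.hom₃ = _ from (ηCx_cone (a • 𝟙 K)).symm]
    simp only [Functor.map_comp, ← Category.assoc]
    exact Function.Bijective.comp ⟨fun _ _ h => (cancel_mono _).1 h,
      fun y => ⟨y ≫ inv (DerivedCategory.Q.map (mappingCone.mapHomologicalComplexIso (a • 𝟙 K) (GF A B)).hom), (Category.assoc _ _ _).trans ((congrArg (y ≫ ·) (IsIso.inv_hom_id _)).trans (Category.comp_id _))⟩⟩
      (hτ Y hY)

end Groth.Agent.ExtTorsBC
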