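import Mathlib.Algebra.Category.ModuleCat.Descent
import Mathlib.Algebra.Category.ModuleCat.Abelian
import Mathlib.Algebra.Category.ModuleCat.Colimits
import Mathlib.Algebra.Homology.QuasiIso
import Mathlib.CategoryTheory.Adjunction.Additive
import Mathlib.RingTheory.Flat.Basic

/-!
# Base change does not change modules killed by a power of the ideal
-/

set_option autoImplicit false
set_option linter.style.haveILetI false
set_option backward.isDefEq.respectTransparency false

universe u

open CategoryTheory CategoryTheory.Limits TensorProduct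

noncomputable section

namespace Groth.Agent.ExtTorsBC

variable (A B : Type u) [CommRing A] [CommRing B] [Algebra A B]

/-- Base change followed by restriction. -/
abbrev GF : ModuleCat.{u} A ⥤ ModuleCat.{u} A :=
  ModuleCat.extendScalars.{u, u, u} (algebraMap A B) ⋙ ModuleCat.restrictScalars.{u} (algebraMap A B)

/-- The unit `T ⟶ B ⊗ T`. -/
abbrev η : 𝟭 (ModuleCat.{u} A) ⟶ GF A B := (ModuleCat.extendRestrictScalarsAdj.{u, u, u} (algebraMap A B)).unit

instance additive_GF : (GF A B).Additive :=
  haveI : (ModuleCat.extendScalars.{u, u, u} (algebraMap A B)).Additive :=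
    (ModuleCat.extendRestrictScalarsAdj.{u, u, u} (algebraMap A B)).left_adjoint_additive
  inferInstance

/-- Extension of scalars along a flat map, followed by restriction, is exact. -/
theorem preservesFiniteLimits_GF [Module.Flat A B] : PreservesFiniteLimits (GF A B) :=
  haveI := ModuleCat.preservesFiniteLimits_extendScalars_of_flat (f := algebraMap A B)
    (RingHom.flat_algebraMap_iff.2 inferInstance)
  comp_preservesFiniteLimits _ _

instance preservesFiniteColimits_GF : PreservesFiniteColimits (GF A B) :=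
  haveI : PreservesFiniteColimits (ModuleCat.extendScalars.{u, u, u} (algebraMap A B)) :=
    haveI : PreservesColimitsOfSize.{0, 0} (ModuleCat.extendScalars.{u, u, u} (algebraMap A B)) :=
      (ModuleCat.extendRestrictScalarsAdj.{u, u, u} (algebraMap A B)).leftAdjoint_preservesColimits
    inferInstance
  comp_preservesFiniteColimits _ _

variable {A B} (I : Ideal A)
  (hs : Function.Surjective ((Ideal.Quotient.mk (I.map (algebraMap A B))).comp (algebraMap A B)))
  (hk : RingHom.ker ((Ideal.Quotient.mk (I.map (algebraMap A B))).comp (algebraMap A B)) = I)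

include hs hk

theorem bijective_one_tmul (T : Type u) [AddCommGroup T] [Module A T] (hT : ∀ a ∈ I, ∀ t : T, a • t = 0) :
    Function.Bijective fun t : T => (1 : B) ⊗ₜ[A] t := by
  let ψ : A ⧸ I →ₗ[A] B ⧸ (I.map (algebraMap A B)) :=
    Submodule.liftQ I (((Ideal.Quotient.mkₐ A (I.map (algebraMap A B))).toLinearMap).comp (Algebra.linearMap A B))
      (fun a ha => Ideal.Quotient.eq_zero_iff_mem.2 (Ideal.mem_map_of_mem _ ha))
  have hψ : Function.Bijective ψ := ⟨(injective_iff_map_eq_zero ψ).2 fun q hq => by
      obtain ⟨a, rfl⟩ := Submodule.Quotient.mk_surjective _ q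
      exact (Submodule.Quotient.mk_eq_zero I).2 (hk ▸ RingHom.mem_ker.2 hq),
    fun y => by
      obtain ⟨a, rfl⟩ := hs y
      exact ⟨Submodule.Quotient.mk a, rfl⟩⟩
  let ρ : B →ₗ[A] A ⧸ I := (LinearEquiv.ofBijective ψ hψ).symm.toLinearMap.comp
    (Ideal.Quotient.mkₐ A (I.map (algebraMap A B))).toLinearMap
  let act : A ⧸ I →ₗ[A] T →ₗ[A] T := Submodule.liftQ I (LinearMap.lsmul A T)
    (fun a ha => LinearMap.mem_ker.2 (LinearMap.ext fun t => hT a ha t))
  let L : B ⊗[A] T →ₗ[A] T := TensorProduct.lift (act.comp ρ)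
  have h1 : ρ 1 = Submodule.Quotient.mk 1 := by
    refine (LinearEquiv.ofBijective ψ hψ).injective ?_
    show ψ ((LinearEquiv.ofBijective ψ hψ).symm _) = ψ _
    refine ((LinearEquiv.ofBijective ψ hψ).apply_symm_apply _).trans ?_
    exact (map_one (Ideal.Quotient.mk (I.map (algebraMap A B)))).symm.trans
      (congrArg _ (map_one (algebraMap A B))).symm
  have hL : ∀ t : T, L ((1 : B) ⊗ₜ[A] t) = t := fun t => by
    show act (ρ 1) t = t
    rw [h1]
    exact one_smul A t
  refine ⟨fun s t hst => ?_, fun x => ?_⟩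
  · rw [← hL s, ← hL t]; exact congrArg L hst
  · induction x using TensorProduct.induction_on with
    | zero => exact ⟨0, TensorProduct.tmul_zero _ _⟩
    | tmul b t =>
      obtain ⟨a, ha⟩ := hs (Ideal.Quotient.mk _ b)
      refine ⟨a • t, ?_⟩
      have hb : algebraMap A B a - b ∈ I.map (algebraMap A B) := Ideal.Quotient.eq.1 ha
      have h0 : ∀ c ∈ I.map (algebraMap A B), c ⊗ₜ[A] t = (0 : B ⊗[A] T) := fun c hc => by
        rw [Ideal.map] at hc
        induction hc using Submodule.span_induction generalizing t with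
        | mem c hc =>
          obtain ⟨i, hi, rfl⟩ := hc
          rw [Algebra.algebraMap_eq_smul_one, TensorProduct.smul_tmul, hT i hi, TensorProduct.tmul_zero]
        | zero => exact TensorProduct.zero_tmul _ _
        | add c d _ _ hc hd => rw [TensorProduct.add_tmul, hc, hd, add_zero]
        | smul r c _ hc =>
          rw [smul_eq_mul, ← smul_eq_mul, ← TensorProduct.smul_tmul', hc, smul_zero]
      show (1 : B) ⊗ₜ[A] (a • t) = b ⊗ₜ[A] t
      rw [← TensorProduct.smul_tmul, ← Algebra.algebraMap_eq_smul_one, ← sub_eq_zero, ← TensorProduct.sub_tmul]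
      exact h0 _ hb
    | add x y hx hy =>
      obtain ⟨s, rfl⟩ := hx
      obtain ⟨t, rfl⟩ := hy
      exact ⟨s + t, TensorProduct.tmul_add _ _ _⟩

variable [Module.Flat A B]

/-- The unit is invertible on modules killed by a power of the ideal. -/
theorem isIso_η : ∀ (n : ℕ) (T : ModuleCat.{u} A), (∀ a ∈ I ^ n, ∀ t : T, a • t = 0) → IsIso ((η A B).app T)
  | 0, T, hT => by
    haveI : Subsingleton T := ⟨fun s t => by
      rw [← one_smul A s, ← one_smul A t, hT 1 (by simp) s, hT 1 (by simp) t]⟩
    have h0 : IsZero T := ModuleCat.isZero_of_subsingleton T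
    exact ⟨0, h0.eq_of_src _ _, ((GF A B).map_isZero h0).eq_of_src _ _⟩
  | n + 1, T, hT => by
    haveI := preservesFiniteLimits_GF A B
    let P : Submodule A T := I • ⊤
    let S : ShortComplex (ModuleCat.{u} A) := ShortComplex.mk (ModuleCat.ofHom P.subtype)
      (ModuleCat.ofHom P.mkQ) (ModuleCat.hom_ext (LinearMap.ext fun x => (Submodule.Quotient.mk_eq_zero P).2 x.2))
    have hS : S.ShortExact :=
      { exact := (ShortComplex.moduleCat_exact_iff _).2 fun x hx =>
          ⟨⟨x, (Submodule.Quotient.mk_eq_zero P).1 hx⟩, rfl⟩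
        mono_f := (ModuleCat.mono_iff_injective _).2 Subtype.val_injective
        epi_g := (ModuleCat.epi_iff_surjective _).2 (Submodule.mkQ_surjective P) }
    have h₁ : IsIso ((η A B).app S.X₁) := isIso_η n _ fun a ha x => Subtype.ext (by
      show a • (x : T) = 0
      refine Submodule.smul_induction_on x.2 (fun i hi y _ => ?_) (fun y z hy hz => ?_)
      · rw [smul_smul]
        exact hT _ (by rw [pow_succ]; exact Ideal.mul_mem_mul ha hi) y
      · rw [smul_add, hy, hz, add_zero])
    have h₃ : IsIso ((η A B).app S.X₃) := (ConcreteCategory.isIso_iff_bijective _).2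
      (@bijective_one_tmul A B _ _ (algebraMap A B).toAlgebra I hs hk (T ⧸ P) _ _ fun a ha t => by
        obtain ⟨t, rfl⟩ := Submodule.Quotient.mk_surjective P t
        rw [← Submodule.Quotient.mk_smul]
        exact (Submodule.Quotient.mk_eq_zero P).2 (Submodule.smul_mem_smul ha Submodule.mem_top))
    haveI : IsIso (S.mapNatTrans (η A B)).τ₁ := h₁
    haveI : IsIso (S.mapNatTrans (η A B)).τ₃ := h₃
    exact ShortComplex.isIso₂_of_shortExact_of_isIso₁₃ (S.mapNatTrans (η A B)) hS
      (hS.map_of_exact (GF A B))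

/-- Base change does not change the cohomology of a complex whose cohomology is killed by powers of the ideal. -/
theorem quasiIso_η (K : CochainComplex (ModuleCat.{u} A) ℤ)
    (hK : ∀ i, ∃ n : ℕ, ∀ a ∈ I ^ n, ∀ t : K.homology i, a • t = 0) :
    QuasiIso ((NatTrans.mapHomologicalComplex (η A B) (ComplexShape.up ℤ)).app K) := by
  haveI := preservesFiniteLimits_GF A B
  refine ⟨fun i => (quasiIsoAt_iff_isIso_homologyMap _ i).2 ?_⟩
  obtain ⟨n, hn⟩ := hK i
  haveI : IsIso ((η A B).app (K.sc i).homology) := isIso_η I hs hk n _ hn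
  haveI : IsIso ((η A B).app ((K.sc i).map (𝟭 (ModuleCat.{u} A))).homology) := ‹_›
  show IsIso (ShortComplex.homologyMap ((K.sc i).mapNatTrans (η A B)))
  rw [ShortComplex.homologyMap_mapNatTrans]
  exact IsIso.comp_isIso' inferInstance (IsIso.comp_isIso' ‹_› inferInstance)

end Groth.Agent.ExtTorsBC
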