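import Groth.Agent.ExtTorsBC.Colim
import Groth.Agent.OpenRestrH.Derived

/-!
# Maps out of torsion modules and flat base change
-/

set_option autoImplicit false
set_option linter.style.haveILetI false
set_option backward.isDefEq.respectTransparency false

universe u

open CategoryTheory CategoryTheory.Limits TensorProduct
attribute [local instance] HasDerivedCategory.standard

noncomputable section

namespace Groth.Agent.ExtTorsBC

variable (A B : Type u) [CommRing A] [CommRing B] [Algebra A B]

/-- `B` as the restriction of the regular module. -/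
def resRegular : (ModuleCat.restrictScalars.{u} (algebraMap A B)).obj (ModuleCat.of B B) ≃ₗ[A] B where
  toFun x := x
  invFun x := x
  map_add' _ _ := rfl
  map_smul' a x := (@Algebra.smul_def A B _ _ _ a x).symm
  left_inv _ := rfl
  right_inv _ := rfl

/-- The statement's base change is extension of scalars. -/
def extIso (M : Type u) [AddCommGroup M] [Module A M] :
    (ModuleCat.extendScalars.{u, u, u} (algebraMap A B)).obj (ModuleCat.of A M) ≅ ModuleCat.of B (B ⊗[A] M) :=
  LinearEquiv.toModuleIso
    (AddEquiv.toLinearEquiv (R := B)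
      (M := (ModuleCat.extendScalars.{u, u, u} (algebraMap A B)).obj (ModuleCat.of A M)) (M₂ := B ⊗[A] M)
      (LinearEquiv.rTensor M (resRegular A B)).toAddEquiv fun b x => by
        refine TensorProduct.induction_on x ?_ (fun a m => ?_) (fun x y hx hy => ?_)
        · rw [smul_zero]
          exact (map_zero _).trans ((smul_zero b).symm.trans (congrArg (b • ·) (map_zero (LinearEquiv.rTensor M (resRegular A B)))).symm)
        · rfl
        · rw [smul_add]
          exact (map_add _ _ _).trans ((congrArg₂ (· + ·) hx hy).trans ((smul_add b _ _).symm.trans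
            (congrArg (b • ·) (map_add (LinearEquiv.rTensor M (resRegular A B)) x y)).symm)))

theorem bijective_shift {D : Type*} [Category D] [HasShift D ℤ] {X Y Y' : D} (g : Y ⟶ Y') (i : ℤ)
    (h : Bij X g) : Function.Bijective fun φ : X ⟶ Y⟦i⟧ => φ ≫ g⟦i⟧' := by
  let e := fun Y : D => ((shiftEquiv' D (-i) i (by omega)).toAdjunction.homEquiv X Y).symm
  have heq : (fun φ : X ⟶ Y⟦i⟧ => φ ≫ g⟦i⟧') = (e Y').symm ∘ (fun ψ : X⟦-i⟧ ⟶ Y => ψ ≫ g) ∘ (e Y) := by
    funext φ
    show φ ≫ g⟦i⟧' = _
    simp only [Function.comp, e, Equiv.symm_symm, Adjunction.homEquiv_naturality_right, Equiv.apply_symm_apply]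
    rfl
  rw [heq]
  exact ((e Y').symm.bijective.comp (h (-i))).comp (e Y).bijective

theorem nonempty_addEquiv [Module.Flat A B] (I : Ideal A) (hI : I.FG)
    (hs : Function.Surjective ((Ideal.Quotient.mk (I.map (algebraMap A B))).comp (algebraMap A B)))
    (hk : RingHom.ker ((Ideal.Quotient.mk (I.map (algebraMap A B))).comp (algebraMap A B)) = I)
    (M N : Type u) [AddCommGroup M] [Module A M] [AddCommGroup N] [Module A N]
    (hM : LocCoh.IsPowerTorsion I M) (i : ℤ) :
    Nonempty ((Dual.inD A M ⟶ (Dual.inD A N)⟦i⟧) ≃+ (Dual.inD B (B ⊗[A] M) ⟶ (Dual.inD B (B ⊗[A] N))⟦i⟧)) := by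
  haveI := preservesFiniteLimits_GF A B
  haveI := ModuleCat.preservesFiniteLimits_extendScalars_of_flat (f := algebraMap A B)
    (RingHom.flat_algebraMap_iff.2 inferInstance)
  let F := ModuleCat.extendScalars.{u, u, u} (algebraMap A B)
  let G := ModuleCat.restrictScalars.{u} (algebraMap A B)
  let adj : F ⊣ G := ModuleCat.extendRestrictScalarsAdj.{u, u, u} (algebraMap A B)
  haveI : F.Additive := adj.left_adjoint_additive
  haveI : PreservesFiniteColimits F :=
    haveI : PreservesColimitsOfSize.{0, 0} F := adj.leftAdjoint_preservesColimits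
    inferInstance
  obtain ⟨D⟩ := OpenRestrH.nonempty_derived_adjunction adj
  haveI := D.left_adjoint_additive
  let SA := DerivedCategory.singleFunctor (ModuleCat.{u} A) 0
  let SB := DerivedCategory.singleFunctor (ModuleCat.{u} B) 0
  -- the comparison along the unit
  obtain ⟨s, hs'⟩ := hI
  have hQ : Bij (SA.obj (ModuleCat.of A M)) (SA.map ((η A B).app (ModuleCat.of A N))) := by
    have key : ∀ (n : ℕ) (X : DM A), (∀ c ∈ I ^ n, c • 𝟙 X = 0) → Function.Bijective
        fun φ : X ⟶ SA.obj (ModuleCat.of A N) => φ ≫ SA.map ((η A B).app (ModuleCat.of A N)) := fun n X hX => by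
      let K : CM A := (HomologicalComplex.single (ModuleCat.{u} A) (ComplexShape.up ℤ) 0).obj (ModuleCat.of A N)
      have h := bij_ηCx I hs hk ⟨s, hs'⟩ s.toList
        (fun f hf => hs' ▸ Ideal.subset_span (Finset.mem_toList.1 hf)) ⊥
        (by
          refine le_trans ?_ Ideal.le_radical
          rw [bot_sup_eq, ← hs']
          exact Ideal.span_mono fun x hx => Finset.mem_toList.2 hx)
        K (fun j => ⟨1, fun c hc t => by rw [pow_one] at hc; rw [(Ideal.mem_bot.1 hc), zero_smul]⟩) n X hX
      let e := DerivedCategory.Q.mapIso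
        ((HomologicalComplex.singleMapHomologicalComplex (GF A B) (ComplexShape.up ℤ) 0).app (ModuleCat.of A N))
      have he : ηCx (B := B) K ≫ ((HomologicalComplex.singleMapHomologicalComplex (GF A B) (ComplexShape.up ℤ) 0).app (ModuleCat.of A N)).hom =
          (HomologicalComplex.single (ModuleCat.{u} A) (ComplexShape.up ℤ) 0).map ((η A B).app (ModuleCat.of A N)) := by
        refine HomologicalComplex.to_single_hom_ext ?_
        simp [K, HomologicalComplex.single_map_f_self]
      have h2 : SA.map ((η A B).app (ModuleCat.of A N)) = DerivedCategory.Q.map (ηCx (B := B) K) ≫ e.hom := by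
        refine Eq.trans ?_ (DerivedCategory.Q.map_comp _ _)
        rw [he]
        rfl
      rw [h2]
      simp only [← Category.assoc]
      exact Function.Bijective.comp ⟨fun _ _ h => (cancel_mono _).1 h,
        fun y => ⟨y ≫ e.inv, (Category.assoc _ _ _).trans ((congrArg (y ≫ ·) e.inv_hom_id).trans (Category.comp_id y))⟩⟩ h
    exact bij_single hM _ key
  let e₀ : (Dual.inD A M ⟶ (Dual.inD A N)⟦i⟧) ≃+ (Dual.inD A M ⟶ (SA.obj ((GF A B).obj (ModuleCat.of A N)))⟦i⟧) :=
    AddEquiv.ofBijective (Preadditive.rightComp (Dual.inD A M) ((SA.map ((η A B).app (ModuleCat.of A N)))⟦i⟧'))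
      (bijective_shift _ i hQ)
  let t : (SA.obj ((GF A B).obj (ModuleCat.of A N)))⟦i⟧ ≅ G.mapDerivedCategory.obj ((SB.obj (F.obj (ModuleCat.of A N)))⟦i⟧) :=
    (shiftFunctor (DM A) i).mapIso ((G.mapDerivedCategorySingleFunctor 0).app (F.obj (ModuleCat.of A N))).symm ≪≫
      ((G.mapDerivedCategory.commShiftIso i).app _).symm
  let u : SB.obj (ModuleCat.of B (B ⊗[A] M)) ≅ F.mapDerivedCategory.obj (SA.obj (ModuleCat.of A M)) :=
    SB.mapIso (extIso A B M).symm ≪≫ ((F.mapDerivedCategorySingleFunctor 0).app (ModuleCat.of A M)).symm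
  let w : (SB.obj (F.obj (ModuleCat.of A N)))⟦i⟧ ≅ (Dual.inD B (B ⊗[A] N))⟦i⟧ :=
    (shiftFunctor _ i).mapIso (SB.mapIso (extIso A B N))
  exact ⟨((e₀.trans (homCongr t)).trans (D.homAddEquiv _ _).symm).trans
    ((homCongr' u).trans (homCongr w))⟩
where
  homCongr {D : Type (u + 1)} [Category.{u + 1} D] [Preadditive D] {X Y Y' : D} (e : Y ≅ Y') : (X ⟶ Y) ≃+ (X ⟶ Y') :=
    { toFun := fun f => f ≫ e.hom, invFun := fun f => f ≫ e.inv, left_inv := fun f => by simp,
      right_inv := fun f => by simp, map_add' := fun f g => Preadditive.add_comp _ _ _ _ _ _ }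
  homCongr' {D : Type (u + 1)} [Category.{u + 1} D] [Preadditive D] {X X' Y : D} (e : X' ≅ X) : (X ⟶ Y) ≃+ (X' ⟶ Y) :=
    { toFun := fun f => e.hom ≫ f, invFun := fun f => e.inv ≫ f, left_inv := fun f => by simp,
      right_inv := fun f => by simp, map_add' := fun f g => Preadditive.comp_add _ _ _ _ _ _ }

end Groth.Agent.ExtTorsBC
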